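import Mathlib
import Groth.Prelude.Def_Cyc
import Groth.Agent.Lib.Helper7.Wt.Main
import Groth.Agent.Lib.Helper7.GalOrb3
import Groth.Agent.Lib.Helper7.UHSch7

set_option linter.style.haveILetI false
set_option linter.unusedVariables false
set_option linter.unusedSectionVars false
set_option autoImplicit false
set_option backward.isDefEq.respectTransparency.types false
set_option synthInstance.maxHeartbeats 400000
set_option maxHeartbeats 1600000

namespace Groth.Agent.Helper7.CycDesc

open CategoryTheory CategoryTheory.Limits AlgebraicGeometry TopologicalSpace Opposite IsLocalRing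
open Groth.Agent.Helper7.FinDeg Groth.Agent.Helper7.Wt Groth.Agent.Helper7.GalOrb

universe u

/-! helper7: descent of Galois invariant cycles along a finite normal field extension (multiplicities divide the inseparable degree) -/

theorem isFinite_SpecMap (k k' : Type u) [Field k] [Field k'] [Algebra k k']
    [FiniteDimensional k k'] : IsFinite (Spec.map (CommRingCat.ofHom (algebraMap k k'))) := by
  rw [IsFinite.SpecMap_iff]
  exact RingHom.finite_algebraMap.mpr inferInstance

theorem flat_SpecMap (k k' : Type u) [Field k] [Field k'] [Algebra k k'] :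
    Flat (Spec.map (CommRingCat.ofHom (algebraMap k k'))) := by
  rw [Flat.SpecMap_iff]
  exact RingHom.flat_algebraMap_iff.mpr inferInstance

/-- the fibre multiplicity is invariant under automorphisms over the base -/
theorem ram_iso_comp {X' X : Scheme.{u}} (p : X' ⟶ X) (t : X' ⟶ X') [IsIso t] (ht : t ≫ p = p)
    (x' : X') : ram p (t x') = ram p x' := by
  have h1 := ram_comp t p x'
  rw [ht, ram_eq_one_of_unramified t x', mul_one] at h1
  exact h1.symm

/-- multiplicities of a base change factoring as a universal homeomorphism of constant degree `d`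
followed by an etale base change divide `d` -/
theorem ram_dvd_of_factor {X S S' T : Scheme.{u}} (f : X ⟶ S) (e : S' ⟶ S) (eT : T ⟶ S)
    (e' : S' ⟶ T) (hcomp : e' ≫ eT = e) [Etale eT] [IsFinite e'] [Flat e']
    (huh : FlatMor.IsUnivHomeo e') (d : ℕ) (hd : ∀ t, e'.finrank t = d)
    (x' : ↥(pullback f e)) : ram (pullback.fst f e) x' ∣ d := by
  subst hcomp
  have t : IsPullback (pullback.fst f eT) (pullback.snd f eT) f eT := IsPullback.of_hasPullback f eT
  have s : IsPullback (pullback.fst f (e' ≫ eT)) (pullback.snd f (e' ≫ eT)) f (e' ≫ eT) :=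
    IsPullback.of_hasPullback f _
  have hw : pullback.fst f (e' ≫ eT) ≫ f = (pullback.snd f (e' ≫ eT) ≫ e') ≫ eT := by
    rw [Category.assoc]
    exact pullback.condition
  obtain ⟨p₁, hp₁⟩ : ∃ p₁, p₁ = t.lift (pullback.fst f (e' ≫ eT))
      (pullback.snd f (e' ≫ eT) ≫ e') hw := ⟨_, rfl⟩
  have hfst : p₁ ≫ pullback.fst f eT = pullback.fst f (e' ≫ eT) := by
    rw [hp₁]
    exact t.lift_fst _ _ _
  have hsnd : p₁ ≫ pullback.snd f eT = pullback.snd f (e' ≫ eT) ≫ e' := by
    rw [hp₁]
    exact t.lift_snd _ _ _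
  have hpb : IsPullback p₁ (pullback.snd f (e' ≫ eT)) (pullback.snd f eT) e' :=
    IsPullback.of_right (by rw [hfst]; exact s) hsnd t
  haveI : IsFinite p₁ := MorphismProperty.of_isPullback (P := @IsFinite) hpb.flip inferInstance
  haveI : Flat p₁ := MorphismProperty.of_isPullback (P := @Flat) hpb.flip inferInstance
  have hhom : IsHomeomorph p₁ := huh _ _ _ hpb
  haveI : Etale (pullback.fst f eT) :=
    MorphismProperty.pullback_fst (P := @Etale) f eT inferInstance
  have hram : ram (pullback.fst f (e' ≫ eT)) x' = ram p₁ x' := by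
    rw [← hfst, ram_comp, ram_eq_one_of_unramified, one_mul]
  rw [hram]
  have hsum := sum_ram_residueDegree p₁ (p₁ x')
  have hfr : p₁.finrank (p₁ x') = d := by
    rw [Scheme.Hom.finrank_of_isPullback _ _ _ _ hpb.flip, hd]
  have hsingle : ∀ z : ↥(p₁ ⁻¹' {p₁ x'}), z = ⟨x', rfl⟩ :=
    fun z => Subtype.ext (hhom.injective z.2)
  rw [finsum_eq_single _ (⟨x', rfl⟩ : ↥(p₁ ⁻¹' {p₁ x'})) (fun z hz => absurd (hsingle z) hz),
    hfr] at hsum
  have h3 : ram p₁ x' * p₁.residueDegree x' = d := by exact_mod_cast hsum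
  exact ⟨_, h3.symm⟩

/-- multiplicities of the base change to a finite extension divide the inseparable degree -/
theorem ram_dvd_finInsepDegree {k k' : Type u} [Field k] [Field k'] [Algebra k k']
    [FiniteDimensional k k'] {X : Scheme.{u}} (f : X ⟶ Spec (CommRingCat.of k))
    (x' : ↥(pullback f (Spec.map (CommRingCat.ofHom (algebraMap k k'))))) :
    ram (pullback.fst f (Spec.map (CommRingCat.ofHom (algebraMap k k')))) x' ∣
      Field.finInsepDegree k k' := by
  haveI : Algebra.IsAlgebraic k k' := Algebra.IsAlgebraic.of_finite k k'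
  haveI : IsPurelyInseparable (separableClosure k k') k' := inferInstance
  haveI : Algebra.IsSeparable k (separableClosure k k') := inferInstance
  haveI : Etale (Spec.map (CommRingCat.ofHom (algebraMap k (separableClosure k k')))) :=
    etale_SpecMap
  haveI : IsFinite (Spec.map (CommRingCat.ofHom (algebraMap (separableClosure k k') k'))) :=
    isFinite_SpecMap _ _
  haveI : Flat (Spec.map (CommRingCat.ofHom (algebraMap (separableClosure k k') k'))) :=
    flat_SpecMap _ _
  have hcomp : Spec.map (CommRingCat.ofHom (algebraMap (separableClosure k k') k')) ≫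
      Spec.map (CommRingCat.ofHom (algebraMap k (separableClosure k k'))) =
      Spec.map (CommRingCat.ofHom (algebraMap k k')) := by
    rw [← Spec.map_comp, ← CommRingCat.ofHom_comp, ← IsScalarTower.algebraMap_eq]
  refine ram_dvd_of_factor f _ _ _ hcomp
    (Groth.Agent.Helper7.UHSch.uh_of_isPurelyInseparable _ _) _ (fun t => ?_) x'
  refine (Scheme.Hom.finrank_SpecMap_algebraMap (separableClosure k k') k' t).trans ?_
  have h := congrFun (Module.rankAtStalk_eq_finrank_of_free (R := separableClosure k k')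
    (M := k')) t
  exact h.trans rfl

/-- the abstract descent statement for cycles along a finite flat surjective morphism -/
theorem descent_abs {X' X : Scheme.{u}} (p : X' ⟶ X) [IsFinite p] [Flat p] [Surjective p]
    (q : ℕ) (hdvd : ∀ x', ram p x' ∣ q) (Z' : AlgebraicCycle X' ℤ)
    (hconj : ∀ x'₁ x'₂ : X', p x'₁ = p x'₂ → Z' x'₁ = Z' x'₂ ∧ ram p x'₁ = ram p x'₂) :
    ∃! Z : AlgebraicCycle X ℤ, ∀ x' : X',
      (q : ℤ) * Z' x' = Cyc.pullFun p (fun _ => 0) (fun _ => 0) 0 ⇑Z x' := by
  classical
  have hpos : ∀ x', 0 < ram p x' := fun x' => ram_pos_of_quasiFiniteAt p x' (p.quasiFiniteAt x')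
  have hpull : ∀ (Z : X → ℤ) (x' : X'),
      Cyc.pullFun p (fun _ => 0) (fun _ => 0) 0 Z x' = Z (p x') * (ram p x' : ℤ) := by
    intro Z x'
    rw [Groth.Agent.Helper7.Spz.pullFun_apply]
    rw [if_pos (show (0 : ℤ) = 0 + 0 by norm_num)]
    rfl
  choose sec hsec using fun x : X => p.surjective x
  obtain ⟨Zf, hZf⟩ : ∃ Zf : X → ℤ, Zf = fun x => (q : ℤ) * Z' (sec x) / (ram p (sec x) : ℤ) :=
    ⟨_, rfl⟩
  have hkey : ∀ x', (q : ℤ) * Z' x' = Zf (p x') * (ram p x' : ℤ) := by
    intro x'
    obtain ⟨h1, h2⟩ := hconj (sec (p x')) x' (hsec (p x'))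
    rw [hZf]
    show _ = (q : ℤ) * Z' (sec (p x')) / (ram p (sec (p x')) : ℤ) * (ram p x' : ℤ)
    rw [h1, h2]
    have hd : (ram p x' : ℤ) ∣ (q : ℤ) * Z' x' :=
      Dvd.dvd.mul_right (by exact_mod_cast hdvd x') _
    exact (Int.ediv_mul_cancel hd).symm
  have hsupp : ∀ z : X, ∃ t ∈ nhds z, Set.Finite (t ∩ Function.support Zf) := by
    intro z
    obtain ⟨U, hU, hzU, -⟩ := exists_isAffineOpen_mem_and_subset (x := z) (U := ⊤) trivial
    have hUc : IsCompact (U : Set X) := hU.isCompact
    have hpc : IsCompact (p ⁻¹' (U : Set X)) :=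
      QuasiCompact.isCompact_preimage (f := p) (U : Set X) U.isOpen hUc
    have hfin : ((p ⁻¹' (U : Set X)) ∩ Function.support Z'.toFun).Finite :=
      LocallyFiniteSupport.finite_inter_support_of_isCompact
        (Function.locallyFinsupp.locallyFiniteSupport Z') hpc
    refine ⟨U, U.isOpen.mem_nhds hzU, (hfin.image p).subset ?_⟩
    rintro x ⟨hxU, hx⟩
    refine ⟨sec x, ⟨?_, ?_⟩, hsec x⟩
    · show p (sec x) ∈ (U : Set X)
      rw [hsec x]
      exact hxU
    · intro h0
      apply hx
      have h0' : Z' (sec x) = 0 := h0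
      rw [hZf]
      show (q : ℤ) * Z' (sec x) / (ram p (sec x) : ℤ) = 0
      rw [h0', mul_zero, Int.zero_ediv]
  refine ⟨⟨Zf, Set.subset_univ _, fun z _ => hsupp z⟩, ?_, ?_⟩
  · intro x'
    rw [hpull]
    exact hkey x'
  · intro Z₂ h₂
    ext x
    have e1 := h₂ (sec x)
    have e2 := hkey (sec x)
    rw [hpull, hsec x] at e1
    rw [hsec x] at e2
    have hne : (ram p (sec x) : ℤ) ≠ 0 := by exact_mod_cast (hpos (sec x)).ne'
    exact mul_right_cancel₀ hne (e1.symm.trans e2)

/-- descent of Galois invariant cycles along a finite normal field extension -/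
theorem main
    {k : Type u} [Field k] {k' : Type u} [Field k'] [Algebra k k'] [FiniteDimensional k k'] [Normal k k']
    {X : Scheme.{u}} (f : X ⟶ Spec (CommRingCat.of k)) [LocallyOfFiniteType f] [QuasiCompact f]
    [IsSeparated f]
    (Z' : AlgebraicCycle (pullback f (Spec.map (CommRingCat.ofHom (algebraMap k k')))) ℤ)
    (hZ' : ∀ (σ : k' ≃ₐ[k] k')
      (t : pullback f (Spec.map (CommRingCat.ofHom (algebraMap k k'))) ⟶
        pullback f (Spec.map (CommRingCat.ofHom (algebraMap k k')))),
      t ≫ pullback.fst f _ = pullback.fst f _ →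
      t ≫ pullback.snd f _ = pullback.snd f _ ≫ Spec.map (CommRingCat.ofHom σ.toAlgHom.toRingHom) →
      ∀ x', Z' (t.base x') = Z' x') :
    ∃! Z : AlgebraicCycle X ℤ, ∀ x' : ↥(pullback f (Spec.map (CommRingCat.ofHom (algebraMap k k')))),
      (Field.finInsepDegree k k' : ℤ) * Z' x' =
        Cyc.pullFun (pullback.fst f (Spec.map (CommRingCat.ofHom (algebraMap k k'))))
          (fun _ => 0) (fun _ => 0) 0 ⇑Z x' := by
  haveI hpfin : IsFinite (pullback.fst f (Spec.map (CommRingCat.ofHom (algebraMap k k')))) :=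
    MorphismProperty.pullback_fst (P := @IsFinite) _ _ (isFinite_SpecMap k k')
  haveI hpflat : Flat (pullback.fst f (Spec.map (CommRingCat.ofHom (algebraMap k k')))) :=
    MorphismProperty.pullback_fst (P := @Flat) _ _ (flat_SpecMap k k')
  haveI hpsurj : Surjective (pullback.fst f (Spec.map (CommRingCat.ofHom (algebraMap k k')))) :=
    MorphismProperty.pullback_fst (P := @Surjective) _ _ surjective_SpecMap
  refine descent_abs (pullback.fst f (Spec.map (CommRingCat.ofHom (algebraMap k k'))))
    (Field.finInsepDegree k k') (fun x' => ram_dvd_finInsepDegree f x') Z' ?_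
  intro x'₁ x'₂ h
  obtain ⟨σ, hσ⟩ := exists_conj f (gal f) (gal_fst f) (gal_snd f) x'₁ x'₂ h
  haveI := isIso_τ f (gal f) (gal_fst f) (gal_snd f) σ
  have hσeq : (σ.toAlgHom.toRingHom : k' →+* k') = (σ : k' →+* k') := by
    ext c
    rfl
  constructor
  · rw [← hσ]
    refine (hZ' σ (gal f σ) (gal_fst f σ) ?_ x'₁).symm
    rw [hσeq]
    exact gal_snd f σ
  · rw [← hσ]
    exact (ram_iso_comp _ (gal f σ) (gal_fst f σ) x'₁).symm

end Groth.Agent.Helper7.CycDesc
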